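import Groth.Agent.RelFrobEt.Basic

/-! Flatness of the relative Frobenius of a smooth algebra. -/

set_option autoImplicit false
set_option backward.isDefEq.respectTransparency false

universe u v

open FrobAlg TensorProduct

noncomputable section

namespace Groth.Agent.RelFrobEt

lemma flat_comp.{w₁, w₂, w₃} {R : Type w₁} {S : Type w₂} {T : Type w₃} [CommRing R] [CommRing S] [CommRing T]
    (f : R →+* S) (g : S →+* T) (hf : f.Flat) (hg : g.Flat) : (g.comp f).Flat := hf.comp hg

section expand

variable (n p : ℕ) (A : Type u) [CommRing A]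

lemma expand_basis [NeZero p] : Function.Bijective fun c : (Fin n → Fin p) → MvPolynomial (Fin n) A =>
    ∑ s, MvPolynomial.expand p (c s) * MvPolynomial.monomial (Finsupp.equivFunOnFinite.symm fun i => (s i : ℕ)) 1 := by
  classical
  set E := (MvPolynomial.expand p : MvPolynomial (Fin n) A →ₐ[A] MvPolynomial (Fin n) A).toRingHom with hE
  let S := Fin n → Fin p
  let e : S → (Fin n →₀ ℕ) := fun s => Finsupp.equivFunOnFinite.symm fun i => (s i : ℕ)
  have huniq : ∀ (d d' : Fin n →₀ ℕ) (s s' : S), p • d + e s = p • d' + e s' → d = d' ∧ s = s' := by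
    intro d d' s s' h
    have h' : ∀ i, p * d i + (s i : ℕ) = p * d' i + (s' i : ℕ) := fun i => by
      simpa [e] using DFunLike.congr_fun h i
    have hs : ∀ i, (s i : ℕ) = (s' i : ℕ) := fun i => by
      have := congrArg (· % p) (h' i)
      simpa [Nat.mul_add_mod, Nat.mod_eq_of_lt (s i).2, Nat.mod_eq_of_lt (s' i).2] using this
    refine ⟨Finsupp.ext fun i => ?_, funext fun i => Fin.ext (hs i)⟩
    have := h' i
    rw [hs i, Nat.add_right_cancel_iff] at this
    exact Nat.eq_of_mul_eq_mul_left (Nat.pos_of_ne_zero (NeZero.ne p)) this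
  have key : ∀ (c : S → MvPolynomial (Fin n) A) (s' : S) (d : Fin n →₀ ℕ),
      MvPolynomial.coeff (p • d + e s') (∑ s, E (c s) * MvPolynomial.monomial (e s) 1) = MvPolynomial.coeff d (c s') := by
    intro c s' d
    have h1 : ∀ s, MvPolynomial.coeff (p • d + e s') (E (c s) * MvPolynomial.monomial (e s) 1) =
        if s = s' then MvPolynomial.coeff d (c s) else 0 := fun s => by
      induction c s using MvPolynomial.induction_on' with
      | monomial d₀ a =>
        rw [show E (MvPolynomial.monomial d₀ a) = MvPolynomial.monomial (p • d₀) a from MvPolynomial.expand_monomial _ _ _,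
          MvPolynomial.monomial_mul, mul_one, MvPolynomial.coeff_monomial, MvPolynomial.coeff_monomial]
        by_cases h : p • d₀ + e s = p • d + e s'
        · obtain ⟨rfl, rfl⟩ := huniq _ _ _ _ h
          simp
        · rw [if_neg h]
          split_ifs with h1 h2
          · exact absurd (by rw [h1, h2]) h
          · rfl
          · rfl
      | add a b ha hb => rw [map_add, add_mul, MvPolynomial.coeff_add, ha, hb]; split_ifs <;> simp
    rw [MvPolynomial.coeff_sum, Finset.sum_congr rfl fun s _ => h1 s, Finset.sum_ite_eq']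
    simp
  show Function.Bijective fun c : S → MvPolynomial (Fin n) A => ∑ s, E (c s) * MvPolynomial.monomial (e s) 1
  refine ⟨fun c c' h => funext fun s => MvPolynomial.ext _ _ fun d => ?_, fun f => ?_⟩
  · rw [← key c s d, ← key c' s d]
    exact congrArg _ h
  · induction f using MvPolynomial.induction_on' with
    | monomial d a =>
      let s₀ : S := fun i => ⟨d i % p, Nat.mod_lt _ (Nat.pos_of_ne_zero (NeZero.ne p))⟩
      refine ⟨Pi.single s₀ (MvPolynomial.monomial (Finsupp.equivFunOnFinite.symm fun i => d i / p) a), ?_⟩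
      simp only
      rw [Finset.sum_eq_single s₀ (fun s _ hs => by rw [Pi.single_eq_of_ne hs, map_zero, zero_mul]) (by simp),
        Pi.single_eq_same,
        show E (MvPolynomial.monomial (Finsupp.equivFunOnFinite.symm fun i => d i / p) a) =
          MvPolynomial.monomial (p • Finsupp.equivFunOnFinite.symm fun i => d i / p) a from MvPolynomial.expand_monomial _ _ _,
        MvPolynomial.monomial_mul, mul_one]
      congr 2
      ext i
      simp [e, s₀, Nat.div_add_mod]
    | add a b ha hb =>
      obtain ⟨c, rfl⟩ := ha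
      obtain ⟨c', rfl⟩ := hb
      exact ⟨c + c', by simp [Finset.sum_add_distrib, add_mul]⟩

lemma expand_flat [NeZero p] : (MvPolynomial.expand p : MvPolynomial (Fin n) A →ₐ[A] MvPolynomial (Fin n) A).toRingHom.Flat := by
  exact flat_of_sum_bijective _ _ (expand_basis n p A)
where
  flat_of_sum_bijective {R S : Type u} [CommRing R] [CommRing S] {κ : Type} [Fintype κ] (E : R →+* S) (v : κ → S)
      (hb : Function.Bijective fun c : κ → R => ∑ s, E (c s) * v s) : E.Flat := by
    letI := E.toAlgebra
    show Module.Flat R S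
    let L : (κ → R) →ₗ[R] S :=
      { toFun := fun c => ∑ s, E (c s) * v s
        map_add' := fun a b => by simp [Finset.sum_add_distrib, add_mul]
        map_smul' := fun r a => by
          simp only [Pi.smul_apply, smul_eq_mul, map_mul, RingHom.id_apply, Algebra.smul_def, mul_assoc]
          rw [Finset.mul_sum]
          rfl }
    exact Module.Flat.of_linearEquiv (LinearEquiv.ofBijective L hb).symm

end expand

variable {p : ℕ} [Fact p.Prime] {A : Type u} [CommRing A] [CharP A p]

lemma relFrob_mvPolynomial_flat (n : ℕ) [CharP (MvPolynomial (Fin n) A) p] :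
    (relFrob p A (MvPolynomial (Fin n) A)).Flat := by
  let P := MvPolynomial (Fin n) A
  letI algT : Algebra A (Target p A P) :=
    ((RingHom.id P).comp ((MvPolynomial.C : A →+* P).comp (frobenius A p))).toAlgebra' (fun _ _ => mul_comm _ _)
  let f₁ : P →ₐ[A] Target p A P :=
    { MvPolynomial.map (frobenius A p) with commutes' := fun a => MvPolynomial.map_C _ a }
  let f₂ : Twist p A →ₐ[A] Target p A P :=
    { (MvPolynomial.C : A →+* P).comp ((toTwist p A).symm : Twist p A →+* A) with commutes' := fun _ => rfl }
  let θ : BaseChange p A P →+* P := (Algebra.TensorProduct.lift f₁ f₂ fun _ _ => Commute.all _ _).toRingHom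
  have hθ : ∀ f a, θ (f ⊗ₜ a) = MvPolynomial.map (frobenius A p) f * MvPolynomial.C ((toTwist p A).symm a) :=
    fun f a => Algebra.TensorProduct.lift_tmul f₁ f₂ _ _ _
  let θ' : P →+* BaseChange p A P := MvPolynomial.eval₂Hom
    ((Algebra.TensorProduct.includeRight : Twist p A →ₐ[A] BaseChange p A P).toRingHom.comp (toTwist p A).toRingHom)
    fun i => (MvPolynomial.X i : P) ⊗ₜ 1
  have h1 : θ.comp θ' = RingHom.id P := by
    refine MvPolynomial.ringHom_ext (fun a => ?_) fun i => ?_
    · show θ (θ' (MvPolynomial.C a)) = _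
      rw [MvPolynomial.eval₂Hom_C]
      show θ ((1 : P) ⊗ₜ toTwist p A a) = _
      rw [hθ, map_one, one_mul, RingEquiv.symm_apply_apply]
      rfl
    · show θ (θ' (MvPolynomial.X i)) = _
      rw [MvPolynomial.eval₂Hom_X', hθ, MvPolynomial.map_X, map_one, map_one, mul_one]
      rfl
  have hsurj : Function.Surjective θ' := by
    intro t
    induction t using TensorProduct.induction_on with
    | zero => exact ⟨0, map_zero _⟩
    | tmul f a =>
      refine ⟨MvPolynomial.map (frobenius A p) f * MvPolynomial.C ((toTwist p A).symm a), ?_⟩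
      have hf : θ' (MvPolynomial.map (frobenius A p) f) = f ⊗ₜ (1 : Twist p A) := by
        induction f using MvPolynomial.induction_on with
        | C c =>
          rw [MvPolynomial.map_C, MvPolynomial.eval₂Hom_C]
          show (1 : P) ⊗ₜ toTwist p A (c ^ p) = _
          rw [← algebraMap_twist, Algebra.algebraMap_eq_smul_one, ← TensorProduct.smul_tmul,
            ← Algebra.algebraMap_eq_smul_one]
          rfl
        | add a b ha hb => rw [map_add, map_add, ha, hb, TensorProduct.add_tmul]
        | mul_X a i ha =>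
          rw [map_mul, map_mul, ha, MvPolynomial.map_X, MvPolynomial.eval₂Hom_X', Algebra.TensorProduct.tmul_mul_tmul,
            mul_one]
      rw [map_mul, hf, MvPolynomial.eval₂Hom_C]
      show f ⊗ₜ (1 : Twist p A) * ((1 : P) ⊗ₜ toTwist p A _) = _
      rw [Algebra.TensorProduct.tmul_mul_tmul, mul_one, one_mul, RingEquiv.apply_symm_apply]
    | add x y hx hy =>
      obtain ⟨a, rfl⟩ := hx
      obtain ⟨b, rfl⟩ := hy
      exact ⟨a + b, map_add _ _ _⟩
  have hb : Function.Bijective θ := by
    refine ⟨fun x y h => ?_, fun z => ⟨θ' z, RingHom.congr_fun h1 z⟩⟩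
    obtain ⟨a, rfl⟩ := hsurj x
    obtain ⟨b, rfl⟩ := hsurj y
    rw [← RingHom.comp_apply, ← RingHom.comp_apply θ, h1] at h
    exact congrArg θ' h
  haveI : NeZero p := ⟨(Fact.out : p.Prime).ne_zero⟩
  have heq : relFrob p A P = (MvPolynomial.expand p : P →ₐ[A] P).toRingHom.comp θ := by
    refine RingHom.ext fun t => ?_
    induction t using TensorProduct.induction_on with
    | zero => simp
    | tmul f a =>
      rw [RingHom.comp_apply, hθ, relFrob_tmul, map_mul]
      congr 1
      · show _ = MvPolynomial.expand p (MvPolynomial.map (frobenius A p) f)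
        rw [← MvPolynomial.map_expand, MvPolynomial.map_frobenius_expand]
      · exact (MvPolynomial.expand_C p _).symm
    | add x y hx hy => rw [map_add, map_add, hx, hy]
  rw [heq]
  exact (RingHom.Flat.of_bijective hb).comp (expand_flat n p A)

lemma flat_of_pushout.{w₁, w₂, w₃, w₄} {R : Type w₁} {S : Type w₂} {R' : Type w₃} {S' : Type w₄} [CommRing R] [CommRing S]
    [CommRing R'] [CommRing S'] [Algebra R S] [Algebra R R'] (hRS : Module.Flat R S) (h : R' →+* S') (k : S →+* S')
    (Φ : R' ⊗[R] S →+* S') (hΦ1 : ∀ x, Φ (x ⊗ₜ 1) = h x) (hb : Function.Bijective Φ) : h.Flat := by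
  haveI := hRS
  have e : h = Φ.comp (algebraMap R' (R' ⊗[R] S)) := RingHom.ext fun x => (hΦ1 x).symm
  rw [e]
  exact (RingHom.flat_algebraMap_iff.2 inferInstance).comp (RingHom.Flat.of_bijective hb)

lemma relFrob_flat_of_etale (n : ℕ) (C : Type v) [CommRing C] [Algebra A C] [CharP C p] [CharP (MvPolynomial (Fin n) A) p]
    [Algebra (MvPolynomial (Fin n) A) C] [IsScalarTower A (MvPolynomial (Fin n) A) C]
    [Algebra.Etale (MvPolynomial (Fin n) A) C] : (relFrob p A C).Flat := by
  let P := MvPolynomial (Fin n) A
  let ψ : BaseChange p A P →+* BaseChange p A C :=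
    (Algebra.TensorProduct.map (IsScalarTower.toAlgHom A P C) (AlgHom.id A (Twist p A))).toRingHom
  have hψ : ∀ f a, ψ (f ⊗ₜ a) = algebraMap P C f ⊗ₜ a := fun _ _ => rfl
  letI := (relFrob p A P).toAlgebra
  letI := ψ.toAlgebra
  have hcomm : ∀ t, relFrob p A C (ψ t) = algebraMap P C (relFrob p A P t) := fun t => by
    induction t using TensorProduct.induction_on with
    | zero => simp
    | tmul f a => rw [hψ, relFrob_tmul, relFrob_tmul, map_mul, map_pow, ← IsScalarTower.algebraMap_apply]
    | add x y hx hy => simp only [map_add, hx, hy]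
  letI algC : Algebra (BaseChange p A P) (Target p A C) := ((toTarget p A C : C →+* Target p A C).comp ((relFrob p A C).comp ψ)).toAlgebra
  let g₁ : BaseChange p A C →ₐ[BaseChange p A P] Target p A C :=
    { (toTarget p A C : C →+* Target p A C).comp (relFrob p A C) with commutes' := fun _ => rfl }
  let g₂ : P →ₐ[BaseChange p A P] Target p A C :=
    { (toTarget p A C : C →+* Target p A C).comp (algebraMap P C) with commutes' := fun t => (hcomm t).symm }
  let Φ : BaseChange p A C ⊗[BaseChange p A P] P →+* C :=
    ((toTarget p A C).symm : Target p A C →+* C).comp (Algebra.TensorProduct.lift g₁ g₂ fun _ _ => Commute.all _ _).toRingHom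
  have hΦ : ∀ x f, Φ (x ⊗ₜ f) = relFrob p A C x * algebraMap P C f := fun x f => by
    show (toTarget p A C).symm (Algebra.TensorProduct.lift g₁ g₂ (fun _ _ => Commute.all _ _) (x ⊗ₜ f)) = _
    rw [Algebra.TensorProduct.lift_tmul]
    rfl
  -- the map from the Frobenius twist over `P`
  let φ₁ : C →+* BaseChange p A C ⊗[BaseChange p A P] P :=
    (algebraMap (BaseChange p A C) _).comp (algebraMap C (BaseChange p A C))
  let φ₂ : P →+* BaseChange p A C ⊗[BaseChange p A P] P :=
    (Algebra.TensorProduct.includeRight : P →ₐ[BaseChange p A P] _).toRingHom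
  have hφ : ∀ q : P, φ₁ (algebraMap P C q) = φ₂ (q ^ p) := fun q => by
    show ((algebraMap P C q) ⊗ₜ (1 : Twist p A)) ⊗ₜ (1 : P) = (1 : BaseChange p A C) ⊗ₜ (q ^ p)
    rw [← hψ, show q ^ p = (q ⊗ₜ (1 : Twist p A) : BaseChange p A P) • (1 : P) from by
      show _ = relFrob p A P _ * 1
      rw [relFrob_tmul, map_one, map_one, mul_one, mul_one], ← TensorProduct.smul_tmul]
    congr 1
    exact (mul_one _).symm
  letI algP : Algebra P (BaseChange p A C ⊗[BaseChange p A P] P) := (φ₂.comp (frobenius P p)).toAlgebra
  let ρ₁ : C →ₐ[P] BaseChange p A C ⊗[BaseChange p A P] P := { φ₁ with commutes' := fun q => hφ q }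
  let ρ₂ : Twist p P →ₐ[P] BaseChange p A C ⊗[BaseChange p A P] P :=
    { φ₂.comp ((toTwist p P).symm : Twist p P →+* P) with commutes' := fun _ => rfl }
  let ρ : BaseChange p P C →+* BaseChange p A C ⊗[BaseChange p A P] P :=
    (Algebra.TensorProduct.lift ρ₁ ρ₂ fun _ _ => Commute.all _ _).toRingHom
  have hρ : ∀ c q, ρ (c ⊗ₜ q) = φ₁ c * φ₂ ((toTwist p P).symm q) := fun c q => Algebra.TensorProduct.lift_tmul ρ₁ ρ₂ _ c q
  have hcompat : ∀ t, Φ (ρ t) = relFrob p P C t := fun t => by
    induction t using TensorProduct.induction_on with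
    | zero => simp
    | tmul c q =>
      rw [hρ, map_mul, relFrob_tmul]
      show Φ ((c ⊗ₜ (1 : Twist p A)) ⊗ₜ (1 : P)) * Φ ((1 : BaseChange p A C) ⊗ₜ _) = _
      rw [hΦ, hΦ, relFrob_tmul, map_one, map_one, map_one, mul_one, mul_one, map_one, one_mul]
    | add x y hx hy => simp only [map_add, hx, hy]
  have hsurj : Function.Surjective ρ := by
    intro t
    induction t using TensorProduct.induction_on with
    | zero => exact ⟨0, map_zero _⟩
    | tmul x f =>
      suffices ∀ x : BaseChange p A C, ∃ s, ρ s = x ⊗ₜ (1 : P) by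
        obtain ⟨s, hs⟩ := this x
        refine ⟨s * ((1 : C) ⊗ₜ toTwist p P f), ?_⟩
        rw [map_mul, hs, hρ, map_one, one_mul, RingEquiv.symm_apply_apply]
        show (x ⊗ₜ (1 : P)) * ((1 : BaseChange p A C) ⊗ₜ f) = _
        rw [Algebra.TensorProduct.tmul_mul_tmul, mul_one, one_mul]
      intro x
      induction x using TensorProduct.induction_on with
      | zero => exact ⟨0, by rw [map_zero, TensorProduct.zero_tmul]⟩
      | tmul c a =>
        refine ⟨c ⊗ₜ toTwist p P (MvPolynomial.C ((toTwist p A).symm a)), ?_⟩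
        rw [hρ, RingEquiv.symm_apply_apply]
        show ((c ⊗ₜ (1 : Twist p A)) ⊗ₜ (1 : P)) * ((1 : BaseChange p A C) ⊗ₜ MvPolynomial.C _) = _
        rw [Algebra.TensorProduct.tmul_mul_tmul, mul_one, one_mul,
          show (MvPolynomial.C ((toTwist p A).symm a) : P) = ((1 : P) ⊗ₜ a : BaseChange p A P) • (1 : P) from by
            show _ = relFrob p A P _ * 1
            rw [relFrob_tmul, one_pow, one_mul, mul_one]
            rfl, ← TensorProduct.smul_tmul]
        congr 1
        show ψ _ * _ = _
        rw [hψ, map_one, Algebra.TensorProduct.tmul_mul_tmul, one_mul, mul_one]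
      | add x y hx hy =>
        obtain ⟨a, ha⟩ := hx
        obtain ⟨b, hb⟩ := hy
        exact ⟨a + b, by rw [map_add, ha, hb, TensorProduct.add_tmul]⟩
    | add x y hx hy =>
      obtain ⟨a, rfl⟩ := hx
      obtain ⟨b, rfl⟩ := hy
      exact ⟨a + b, map_add _ _ _⟩
  have hE := bijective_of_etale (p := p) (A := P) (B := C)
  have hb : Function.Bijective Φ := by
    refine ⟨fun x y h => ?_, fun z => ?_⟩
    · obtain ⟨a, rfl⟩ := hsurj x
      obtain ⟨b, rfl⟩ := hsurj y
      rw [hcompat, hcompat] at h
      rw [hE.1 h]
    · obtain ⟨t, rfl⟩ := hE.2 z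
      exact ⟨ρ t, hcompat t⟩
  have hP : Module.Flat (BaseChange p A P) P := relFrob_mvPolynomial_flat n
  exact flat_of_pushout hP (relFrob p A C) (algebraMap P C) Φ
    (fun x => by show Φ (x ⊗ₜ 1) = _; rw [hΦ, map_one, mul_one]) hb

theorem relFrob_flat (B : Type v) [CommRing B] [Algebra A B] [CharP B p] [Algebra.Smooth A B] :
    (relFrob p A B).Flat := by
  obtain ⟨s, hs, hstd⟩ := Algebra.Smooth.exists_span_eq_top_isStandardSmooth A B
  letI := (relFrob p A B).toAlgebra
  show Module.Flat (BaseChange p A B) B
  refine Module.flat_of_isLocalized_span (S := B) (M := B) s hs (fun f => Localization.Away (f : B))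
    (fun f => (Algebra.linearMap B (Localization.Away (f : B)))) fun f => ?_
  rcases subsingleton_or_nontrivial (Localization.Away (f : B)) with hsub | hnt
  · infer_instance
  have hp : (p : Localization.Away (f : B)) = 0 := by
    rw [← map_natCast (algebraMap B (Localization.Away (f : B))), CharP.cast_eq_zero, map_zero]
  haveI : CharP (Localization.Away (f : B)) p := (CharP.charP_iff_prime_eq_zero Fact.out).mpr hp
  haveI := hstd f f.2
  obtain ⟨n, g, hg, hget⟩ := RingHom.IsStandardSmooth.exists_etale_mvPolynomial
    (RingHom.isStandardSmooth_algebraMap.2 ‹Algebra.IsStandardSmooth A (Localization.Away (f : B))›)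
  letI := g.toAlgebra
  haveI : IsScalarTower A (MvPolynomial (Fin n) A) (Localization.Away (f : B)) :=
    IsScalarTower.of_algebraMap_eq fun a => (RingHom.congr_fun hg a).symm
  haveI : Algebra.Etale (MvPolynomial (Fin n) A) (Localization.Away (f : B)) := hget
  have hflat := relFrob_flat_of_etale (p := p) (A := A) n (Localization.Away (f : B))
  let ω : BaseChange p A B →+* BaseChange p A (Localization.Away (f : B)) :=
    (Algebra.TensorProduct.map (IsScalarTower.toAlgHom A B (Localization.Away (f : B))) (AlgHom.id A (Twist p A))).toRingHom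
  have hω : ω.Flat := by
    let e : BaseChange p A B ⊗[B] Localization.Away (f : B) ≃+* BaseChange p A (Localization.Away (f : B)) :=
      (Algebra.TensorProduct.comm B (BaseChange p A B) (Localization.Away (f : B))).toRingEquiv.trans
        (Algebra.TensorProduct.cancelBaseChange A B B (Localization.Away (f : B)) (Twist p A)).toRingEquiv
    have he : ω = e.toRingHom.comp (algebraMap (BaseChange p A B) _) := by
      refine RingHom.ext fun t => ?_
      induction t using TensorProduct.induction_on with
      | zero => simp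
      | tmul b a =>
        show algebraMap B _ b ⊗ₜ a = Algebra.TensorProduct.cancelBaseChange A B B (Localization.Away (f : B)) (Twist p A)
          ((1 : Localization.Away (f : B)) ⊗ₜ[B] (b ⊗ₜ[A] a))
        rw [Algebra.TensorProduct.cancelBaseChange_tmul, Algebra.smul_def, mul_one]
      | add x y hx hy => simp only [map_add, hx, hy]
    rw [he]
    exact (RingHom.flat_algebraMap_iff.2 inferInstance).comp (RingHom.Flat.of_bijective e.bijective)
  have hcomm : (relFrob p A (Localization.Away (f : B))).comp ω =
      algebraMap (BaseChange p A B) (Localization.Away (f : B)) := by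
    refine RingHom.ext fun t => ?_
    show _ = algebraMap B _ (relFrob p A B t)
    induction t using TensorProduct.induction_on with
    | zero => simp
    | tmul b a =>
      show relFrob p A _ (algebraMap B _ b ⊗ₜ a) = _
      rw [relFrob_tmul, relFrob_tmul, map_mul, map_pow, ← IsScalarTower.algebraMap_apply]
    | add x y hx hy => simp only [map_add, hx, hy]
  exact RingHom.flat_algebraMap_iff.1 (hcomm ▸ hω.comp hflat)

end Groth.Agent.RelFrobEt
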