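import Groth.Agent.RelFrobEt.Flat
import Groth.Prelude.Def_W4c2gaugesfzipsQuiet

/-! Frobenius of a smooth algebra over a perfect field is an extraction of roots. -/

set_option autoImplicit false
set_option backward.isDefEq.respectTransparency false

universe u

open FrobAlg TensorProduct Polynomial CategoryTheory AlgebraicGeometry

noncomputable section

namespace Groth.Agent.RelFrobEt

theorem isRootTower_of_basis (p : ℕ) (hp : 0 < p) : ∀ (n : ℕ) (C B : Type u) [CommRing C] [CommRing B] [Algebra C B]
    (a : Fin n → C) (y : Fin n → B), (∀ i, y i ^ p = algebraMap C B (a i)) →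
    (Function.Bijective fun c : (Fin n → Fin p) → C => ∑ s, algebraMap C B (c s) * ∏ i, y i ^ (s i : ℕ)) →
    Quiet.IsRootTower p n C B := by
  intro n
  induction n with
  | zero =>
    intro C B _ _ _ a y _ hb
    refine ⟨(AlgEquiv.ofBijective (Algebra.ofId C B) ⟨fun u v h => ?_, fun z => ?_⟩).symm⟩
    · have := @hb.1 (fun _ => u) (fun _ => v) (by simpa using h)
      exact congrFun this default
    · obtain ⟨c, rfl⟩ := hb.2 z
      exact ⟨c default, by simp [Fintype.sum_unique]⟩
  | succ n ih =>
    intro C B _ _ _ a y hy hb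
    refine ⟨a 0, ?_⟩
    let l : Quiet.RootRing p C (a 0) →+* B := AdjoinRoot.lift (algebraMap C B) (y 0) (by simp [hy 0])
    letI := l.toAlgebra
    haveI : IsScalarTower C (Quiet.RootRing p C (a 0)) B :=
      IsScalarTower.of_algebraMap_eq fun x => (AdjoinRoot.lift_of _).symm
    refine ⟨inferInstance, inferInstance, ih (Quiet.RootRing p C (a 0)) B (fun i => AdjoinRoot.of _ (a i.succ))
      (fun i => y i.succ) (fun i => by rw [hy]; exact (AdjoinRoot.lift_of _).symm) ?_⟩
    rcases subsingleton_or_nontrivial C with hC | hC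
    · haveI : Subsingleton (Quiet.RootRing p C (a 0)) := Module.subsingleton C _
      haveI : Subsingleton B := Module.subsingleton C B
      exact ⟨fun _ _ _ => Subsingleton.elim _ _, fun z => ⟨fun _ => 0, Subsingleton.elim _ _⟩⟩
    have hg : (X ^ p - Polynomial.C (a 0) : C[X]).Monic := monic_X_pow_sub_C _ hp.ne'
    have hdeg : (X ^ p - Polynomial.C (a 0) : C[X]).natDegree = p := natDegree_X_pow_sub_C
    let L : (Fin p → C) → Quiet.RootRing p C (a 0) := fun c => ∑ j, AdjoinRoot.of _ (c j) * AdjoinRoot.root _ ^ (j : ℕ)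
    have hL : Function.Bijective L := by
      let b := (AdjoinRoot.powerBasis' hg).basis.reindex (finCongr hdeg)
      have : L = fun c => b.equivFun.symm c := funext fun c => by
        rw [Module.Basis.equivFun_symm_apply]
        refine Finset.sum_congr rfl fun j _ => ?_
        rw [Module.Basis.reindex_apply, PowerBasis.basis_eq_pow, AdjoinRoot.powerBasis'_gen, Algebra.smul_def,
          AdjoinRoot.algebraMap_eq]
        rfl
      rw [this]
      exact b.equivFun.symm.bijective
    let K : ((Fin (n + 1) → Fin p) → C) → ((Fin n → Fin p) → Quiet.RootRing p C (a 0)) :=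
      fun c s => L fun j => c (Fin.cons j s)
    have hK : Function.Bijective K := by
      refine ⟨fun c c' h => funext fun s => ?_, fun d => ?_⟩
      · have := congrFun (hL.1 (congrFun h (Fin.tail s))) (s 0)
        simpa using this
      · choose e he using fun s => hL.2 (d s)
        refine ⟨fun s => e (Fin.tail s) (s 0), funext fun s => ?_⟩
        simpa [K] using he s
    refine (Function.Bijective.of_comp_iff _ hK).1 ?_
    convert hb using 1
    funext c
    simp only [Function.comp_apply]
    rw [← Equiv.sum_comp (Fin.consEquiv fun _ => Fin p) (fun s => algebraMap C B (c s) * ∏ i, y i ^ (s i : ℕ)),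
      Fintype.sum_prod_type, Finset.sum_comm]
    refine Finset.sum_congr rfl fun s _ => ?_
    show l (L fun j => c (Fin.cons j s)) * _ = _
    rw [map_sum, Finset.sum_mul]
    refine Finset.sum_congr rfl fun j _ => ?_
    rw [map_mul, map_pow, AdjoinRoot.lift_of, AdjoinRoot.lift_root, Fin.prod_univ_succ, mul_assoc]
    simp
    rfl

variable {p : ℕ} [Fact p.Prime] {k : Type u} [Field k] [CharP k p] [PerfectRing k p]

lemma frobenius_basis (n : ℕ) (C : Type u) [CommRing C] [CharP C p] [Algebra (MvPolynomial (Fin n) k) C]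
    [Algebra.Etale (MvPolynomial (Fin n) k) C] :
    Function.Bijective fun c : (Fin n → Fin p) → C =>
      ∑ s, c s ^ p * ∏ i, algebraMap (MvPolynomial (Fin n) k) C (MvPolynomial.X i) ^ (s i : ℕ) := by
  let P := MvPolynomial (Fin n) k
  haveI : NeZero p := ⟨(Fact.out : p.Prime).ne_zero⟩
  let v : (Fin n → Fin p) → Twist p P := fun s =>
    toTwist p P (MvPolynomial.monomial (Finsupp.equivFunOnFinite.symm fun i => (s i : ℕ)) 1)
  let L : ((Fin n → Fin p) → P) →ₗ[P] Twist p P :=
    { toFun := fun c => ∑ s, c s • v s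
      map_add' := fun c d => by simp only [Pi.add_apply, add_smul, Finset.sum_add_distrib]
      map_smul' := fun r c => by simp only [Pi.smul_apply, smul_eq_mul, RingHom.id_apply, Finset.smul_sum, mul_smul] }
  have hM : Function.Bijective (MvPolynomial.map (σ := Fin n) (frobenius k p)) := by
    refine ⟨MvPolynomial.map_injective _ (frobenius k p).injective, MvPolynomial.map_surjective _ ?_⟩
    exact (frobeniusEquiv k p).surjective
  have hL : Function.Bijective L := by
    have e : ⇑L = (toTwist p P) ∘ (fun c : (Fin n → Fin p) → P =>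
        ∑ s, MvPolynomial.expand p (c s) * MvPolynomial.monomial (Finsupp.equivFunOnFinite.symm fun i => (s i : ℕ)) 1) ∘
        (fun c s => MvPolynomial.map (frobenius k p) (c s)) := by
      funext c
      simp only [Function.comp_apply, map_sum]
      refine Finset.sum_congr rfl fun s _ => ?_
      rw [Algebra.smul_def, algebraMap_twist, ← map_mul, ← MvPolynomial.map_expand, MvPolynomial.map_frobenius_expand]
    rw [e]
    refine (toTwist p P).bijective.comp ((expand_basis n p k).comp ?_)
    refine ⟨fun c d h => funext fun s => hM.1 (congrFun h s), fun d => ?_⟩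
    choose e he using fun s => hM.2 (d s)
    exact ⟨e, funext he⟩
  let b : Module.Basis (Fin n → Fin p) P (Twist p P) := Module.Basis.ofEquivFun (LinearEquiv.ofBijective L hL).symm
  have hb : ∀ s, b s = v s := fun s => by
    classical
    rw [Module.Basis.coe_ofEquivFun]
    simp only [LinearEquiv.symm_symm, LinearEquiv.ofBijective_apply, L, LinearMap.coe_mk, AddHom.coe_mk]
    rw [Finset.sum_eq_single s (fun t _ ht => by rw [Pi.single_eq_of_ne ht, zero_smul]) (fun h => absurd (Finset.mem_univ s) h),
      Pi.single_eq_same, one_smul]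
  have e : (fun c : (Fin n → Fin p) → C => ∑ s, c s ^ p * ∏ i, algebraMap P C (MvPolynomial.X i) ^ (s i : ℕ)) =
      relFrob p P C ∘ (b.baseChange C).equivFun.symm := by
    funext c
    rw [Function.comp_apply, Module.Basis.equivFun_symm_apply, map_sum]
    refine Finset.sum_congr rfl fun s _ => ?_
    rw [Module.Basis.baseChange_apply, TensorProduct.smul_tmul', hb, smul_eq_mul, mul_one, relFrob_tmul,
      RingEquiv.symm_apply_apply, MvPolynomial.monomial_eq, MvPolynomial.C_1, one_mul,
      Finsupp.prod_fintype _ _ (fun i => by rw [pow_zero]), map_prod]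
    simp
  rw [e]
  exact (bijective_of_etale (p := p) (A := P) (B := C)).comp (b.baseChange C).equivFun.symm.bijective

theorem frobenius_ff (A : Type u) [CommRing A] [Algebra k A] [CharP A p] [Algebra.Smooth k A] :
    (frobenius A p).FaithfullyFlat := by
  have hflat : (frobenius A p).Flat := by
    have e : frobenius A p = (relFrob p k A).comp (algebraMap A (BaseChange p k A)) := RingHom.ext fun a => by
      show a ^ p = relFrob p k A (a ⊗ₜ 1)
      rw [relFrob_tmul, map_one, map_one, mul_one]
    rw [e]
    exact (RingHom.flat_algebraMap_iff.2 inferInstance).comp (relFrob_flat A)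
  refine RingHom.FaithfullyFlat.iff_flat_and_comap_surjective.2 ⟨hflat, fun P => ⟨P, PrimeSpectrum.ext (Ideal.ext fun x => ?_)⟩⟩
  rw [PrimeSpectrum.comap_asIdeal, Ideal.mem_comap, frobenius_def]
  exact P.2.pow_mem_iff_mem p (Fact.out : p.Prime).pos

lemma away_sections {R : CommRingCat.{u}} (f : R) (V : (Spec R).Opens) (h : V = PrimeSpectrum.basicOpen f) :
    @IsLocalization.Away _ _ f Γ(Spec R, V) _
      ((Scheme.ΓSpecIso R).inv ≫ (Spec R).presheaf.map (homOfLE le_top).op).hom.toAlgebra := by
  subst h
  have e : ((Scheme.ΓSpecIso R).inv ≫ (Spec R).presheaf.map (homOfLE le_top).op).hom.toAlgebra =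
      (inferInstance : Algebra R Γ(Spec R, PrimeSpectrum.basicOpen f)) := Algebra.algebra_ext _ _ fun _ => rfl
  rw [e]
  infer_instance

theorem isPthRoot (A : Type u) [CommRing A] [Algebra k A] [CharP A p] [Algebra.Smooth k A] :
    Quiet.IsPthRoot p (Spec.map (CommRingCat.ofHom (frobenius A p))) := by
  intro x
  obtain ⟨s, hs, hstd⟩ := Algebra.Smooth.exists_span_eq_top_isStandardSmooth k A
  obtain ⟨f, hfs, hfx⟩ : ∃ f ∈ s, f ∉ x.asIdeal := by
    by_contra h
    push Not at h
    exact x.2.ne_top (eq_top_iff.2 (hs ▸ Ideal.span_le.2 h))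
  let φ := Spec.map (CommRingCat.ofHom (frobenius A p))
  let U : (Spec (CommRingCat.of A)).affineOpens := ⟨PrimeSpectrum.basicOpen f, IsAffineOpen.Spec_basicOpen (R := CommRingCat.of A) f⟩
  refine ⟨U, hfx, U.2.preimage φ, ?_⟩
  have hpre : φ ⁻¹ᵁ U.1 = PrimeSpectrum.basicOpen (f ^ p) := rfl
  letI := (φ.app U.1).hom.toAlgebra
  haveI := hstd f hfs
  let L := Localization.Away f
  obtain ⟨n, g, hg, hget⟩ := RingHom.IsStandardSmooth.exists_etale_mvPolynomial
    (RingHom.isStandardSmooth_algebraMap.2 ‹Algebra.IsStandardSmooth k L›)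
  refine ⟨n, ?_⟩
  letI := g.toAlgebra
  haveI : Algebra.Etale (MvPolynomial (Fin n) k) L := hget
  haveI : Nontrivial L := (IsLocalization.lift (S := L) (M := Submonoid.powers f)
    (g := algebraMap A (Localization.AtPrime x.asIdeal)) fun y => by
      obtain ⟨y, m, rfl⟩ := y
      exact IsLocalization.map_units (Localization.AtPrime x.asIdeal)
        (⟨f ^ m, fun h => hfx (x.2.mem_of_pow_mem m h)⟩ : x.asIdeal.primeCompl)).domain_nontrivial
  haveI : CharP L p := (CharP.charP_iff_prime_eq_zero Fact.out).mpr
    (by rw [← map_natCast (algebraMap A L), CharP.cast_eq_zero, map_zero])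
  have hb := frobenius_basis (p := p) (k := k) n L
  let R₁ := Γ(Spec (CommRingCat.of A), U.1)
  let R₂ := Γ(Spec (CommRingCat.of A), φ ⁻¹ᵁ U.1)
  letI algT₁ : Algebra A R₁ := ((Scheme.ΓSpecIso (CommRingCat.of A)).inv ≫
    (Spec (CommRingCat.of A)).presheaf.map (homOfLE (le_top (a := U.1))).op).hom.toAlgebra
  letI algT₂ : Algebra A R₂ := ((Scheme.ΓSpecIso (CommRingCat.of A)).inv ≫
    (Spec (CommRingCat.of A)).presheaf.map (homOfLE (le_top (a := φ ⁻¹ᵁ U.1))).op).hom.toAlgebra
  haveI : IsLocalization.Away f R₁ := away_sections (R := CommRingCat.of A) f _ rfl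
  haveI : IsLocalization.Away f R₂ := away_sections (R := CommRingCat.of A) f _
    (by rw [hpre]; exact PrimeSpectrum.basicOpen_pow f p (Fact.out : p.Prime).pos)
  let e₁ : L ≃ₐ[A] R₁ := IsLocalization.algEquiv (Submonoid.powers f) L R₁
  let e₂ : L ≃ₐ[A] R₂ := IsLocalization.algEquiv (Submonoid.powers f) L R₂
  have hcomm : ∀ z : L, (φ.app U.1).hom (e₁ z) = e₂ (z ^ p) := by
    suffices (φ.app U.1).hom.comp (e₁ : L →+* R₁) = (e₂ : L →+* R₂).comp (frobenius L p) from
      fun z => RingHom.congr_fun this z
    refine IsLocalization.ringHom_ext (Submonoid.powers f) (RingHom.ext fun z => ?_)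
    show (φ.app U.1).hom (e₁ (algebraMap A L z)) = e₂ (algebraMap A L z ^ p)
    rw [e₁.commutes, ← map_pow, e₂.commutes]
    have h := congrArg (fun m => m.hom z)
      (show (Scheme.ΓSpecIso (CommRingCat.of A)).inv ≫ (Spec (CommRingCat.of A)).presheaf.map (homOfLE (le_top (a := U.1))).op ≫ φ.app U.1 =
        CommRingCat.ofHom (frobenius A p) ≫ (Scheme.ΓSpecIso (CommRingCat.of A)).inv ≫
          (Spec (CommRingCat.of A)).presheaf.map (homOfLE (le_top (a := φ ⁻¹ᵁ U.1))).op by
        rw [Scheme.Hom.naturality, ← Category.assoc, ← Category.assoc, Scheme.ΓSpecIso_inv_naturality]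
        rfl)
    exact h
  refine isRootTower_of_basis p (Fact.out : p.Prime).pos n R₁ R₂ (fun i => e₁ (g (MvPolynomial.X i)))
    (fun i => e₂ (g (MvPolynomial.X i))) (fun i => by rw [← map_pow]; exact (hcomm _).symm) ?_
  have hc : (fun c : (Fin n → Fin p) → R₁ => ∑ s, algebraMap R₁ R₂ (c s) * ∏ i, e₂ (g (MvPolynomial.X i)) ^ (s i : ℕ)) =
      e₂ ∘ (fun c : (Fin n → Fin p) → L => ∑ s, c s ^ p * ∏ i, algebraMap (MvPolynomial (Fin n) k) L (MvPolynomial.X i) ^ (s i : ℕ)) ∘
        (fun c s => e₁.symm (c s)) := by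
    funext c
    simp only [Function.comp_apply, map_sum]
    refine Finset.sum_congr rfl fun s _ => ?_
    rw [map_mul, map_prod]
    congr 1
    · show (φ.app U.1).hom (c s) = _
      rw [← hcomm, e₁.apply_symm_apply]
    · exact Finset.prod_congr rfl fun i _ => (map_pow e₂ _ _).symm
  rw [hc]
  refine e₂.bijective.comp (hb.comp ⟨fun c d h => funext fun s => e₁.symm.injective (congrFun h s), fun d => ⟨fun s => e₁ (d s), funext fun s => e₁.symm_apply_apply _⟩⟩)

end Groth.Agent.RelFrobEt
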