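import Mathlib
import Groth.Prelude.Def_FrobAlg

/-! The relative Frobenius and étale algebras. -/

set_option autoImplicit false
set_option backward.isDefEq.respectTransparency false

universe u v

open FrobAlg TensorProduct

noncomputable section

namespace Groth.Agent.RelFrobEt

variable {p : ℕ} [Fact p.Prime] {A : Type u} [CommRing A] [CharP A p]
  {B : Type v} [CommRing B] [Algebra A B] [CharP B p]

lemma relFrob_tmul (b : B) (a : Twist p A) :
    relFrob p A B (b ⊗ₜ a) = b ^ p * algebraMap A B ((toTwist p A).symm a) := by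
  simp only [relFrob, RingHom.comp_apply, AlgHom.toRingHom_eq_coe, RingHom.coe_coe]
  rw [Algebra.TensorProduct.lift_tmul]
  rfl

lemma exists_powHom.{w} (p : ℕ) [Fact p.Prime] (R : Type w) [CommRing R] (hp : (p : R) = 0) :
    ∃ F : R →+* R, ∀ a, F a = a ^ p := by
  rcases subsingleton_or_nontrivial R with hR | hR
  · exact ⟨RingHom.id R, fun _ => Subsingleton.elim _ _⟩
  · haveI : CharP R p := (CharP.charP_iff_prime_eq_zero Fact.out).mpr hp
    exact ⟨frobenius R p, fun _ => rfl⟩

/-- Lifting along a square zero ideal of a map twisted by Frobenius. -/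
lemma exists_semilift.{w} (C : Type w) [CommRing C] [Algebra A C] (I : Ideal C) (hI : I ^ 2 = ⊥) (g : B →ₐ[A] C ⧸ I) :
    ∃ φ : BaseChange p A B →+* C, ∀ b a, Ideal.Quotient.mk I (φ (b ⊗ₜ a)) = g (relFrob p A B (b ⊗ₜ a)) ∧
      (b = 1 → φ (b ⊗ₜ a) = algebraMap A C ((toTwist p A).symm a)) := by
  have hpC : (p : C) = 0 := by rw [← map_natCast (algebraMap A C), CharP.cast_eq_zero, map_zero]
  obtain ⟨F, hF⟩ := exists_powHom p C hpC
  have hker : I ≤ RingHom.ker F := fun x hx => by
    rw [RingHom.mem_ker, hF, ← Nat.sub_add_cancel (Fact.out : p.Prime).two_le, pow_add]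
    rw [show x ^ 2 = 0 from by simpa [hI] using Ideal.pow_mem_pow hx 2, mul_zero]
  let F' : C ⧸ I →+* C := Ideal.Quotient.lift I F fun x hx => hker hx
  have hF' : ∀ x, Ideal.Quotient.mk I (F' x) = x ^ p := fun x => by
    obtain ⟨x, rfl⟩ := Ideal.Quotient.mk_surjective x
    rw [show F' (Ideal.Quotient.mk I x) = F x from rfl, hF, map_pow]
  letI algC : Algebra A (Target p A C) :=
    ((RingHom.id C).comp ((algebraMap A C).comp (frobenius A p))).toAlgebra' (fun _ _ => mul_comm _ _)
  let f₁ : B →ₐ[A] Target p A C :=
    { (F'.comp g.toRingHom) with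
      commutes' := fun a => by
        show F' (g (algebraMap A B a)) = algebraMap A C (a ^ p)
        rw [g.commutes, show algebraMap A (C ⧸ I) a = Ideal.Quotient.mk I (algebraMap A C a) from rfl,
          show F' (Ideal.Quotient.mk I (algebraMap A C a)) = F (algebraMap A C a) from rfl, hF, map_pow] }
  let f₂ : Twist p A →ₐ[A] Target p A C :=
    { ((algebraMap A C).comp ((toTwist p A).symm : Twist p A →+* A)) with
      commutes' := fun _ => rfl }
  refine ⟨(Algebra.TensorProduct.lift f₁ f₂ fun _ _ => Commute.all _ _).toRingHom, fun b a => ⟨?_, ?_⟩⟩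
  · show Ideal.Quotient.mk I ((Algebra.TensorProduct.lift f₁ f₂ fun _ _ => Commute.all _ _) (b ⊗ₜ a)) = _
    rw [Algebra.TensorProduct.lift_tmul, relFrob_tmul, map_mul g, map_pow g, g.commutes]
    show Ideal.Quotient.mk I (F' (g b) * algebraMap A C ((toTwist p A).symm a)) = _
    rw [map_mul, hF']
    rfl
  · rintro rfl
    show (Algebra.TensorProduct.lift f₁ f₂ fun _ _ => Commute.all _ _) ((1 : B) ⊗ₜ a) = _
    rw [Algebra.TensorProduct.lift_tmul, map_one, one_mul]
    rfl

lemma kaehler_subsingleton_of_surjective (h : Function.Surjective (relFrob p A B)) :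
    Subsingleton (Ω[B⁄A]) := by
  rw [← not_nontrivial_iff_subsingleton]
  intro hnt
  have hp : (p : Ω[B⁄A] →ₗ[B] Ω[B⁄A]) = 0 := by
    rw [← map_natCast (algebraMap B _), CharP.cast_eq_zero, map_zero]
  have hD : ∀ t : BaseChange p A B, KaehlerDifferential.D A B (relFrob p A B t) = 0 := fun t => by
    induction t using TensorProduct.induction_on with
    | zero => simp
    | tmul b a =>
      rw [relFrob_tmul, Derivation.leibniz, Derivation.map_algebraMap, smul_zero, zero_add, Derivation.leibniz_pow,
        ← Nat.cast_smul_eq_nsmul B, CharP.cast_eq_zero, zero_smul, smul_zero]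
    | add x y hx hy => simp only [map_add, hx, hy, add_zero]
  have : Subsingleton (Ω[B⁄A]) := by
    refine Submodule.subsingleton_iff B |>.1 (subsingleton_of_bot_eq_top ?_)
    rw [← KaehlerDifferential.span_range_derivation, eq_comm, Submodule.span_eq_bot]
    rintro _ ⟨b, rfl⟩
    obtain ⟨t, rfl⟩ := h b
    exact hD t
  exact not_nontrivial _ hnt

theorem formallyEtale (h : Function.Bijective (relFrob p A B)) : Algebra.FormallyEtale A B := by
  haveI : Algebra.FormallyUnramified A B := ⟨kaehler_subsingleton_of_surjective h.2⟩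
  haveI : Algebra.FormallySmooth A B := by
    refine Algebra.FormallySmooth.of_comp_surjective fun C _ _ I hI g => ?_
    obtain ⟨φ, hφ⟩ := exists_semilift (p := p) C I hI g
    let e := RingEquiv.ofBijective _ h
    refine ⟨{ (φ.comp e.symm.toRingHom) with commutes' := fun a => ?_ }, AlgHom.ext fun b => ?_⟩
    · show φ (e.symm (algebraMap A B a)) = _
      rw [show e.symm (algebraMap A B a) = (1 : B) ⊗ₜ toTwist p A a from e.symm_apply_eq.2 (by
        rw [RingEquiv.ofBijective_apply]
        rw [relFrob_tmul, one_pow, one_mul, RingEquiv.symm_apply_apply]),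
        (hφ 1 (toTwist p A a)).2 rfl, RingEquiv.symm_apply_apply]
    · obtain ⟨t, rfl⟩ := e.surjective b
      show Ideal.Quotient.mk I (φ (e.symm (e t))) = g (e t)
      rw [e.symm_apply_apply]
      induction t using TensorProduct.induction_on with
      | zero => simp
      | tmul b a => exact (hφ b a).1
      | add x y hx hy => simp only [map_add, hx, hy]
  exact Algebra.FormallyEtale.of_formallyUnramified_and_formallySmooth

theorem formallyUnramified_iff :
    Algebra.FormallyUnramified A B ↔
      @Algebra.FormallyUnramified (BaseChange p A B) B _ _ (relFrob p A B).toAlgebra := by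
  letI := (relFrob p A B).toAlgebra
  have halg : ∀ a : A, algebraMap A B a = algebraMap (BaseChange p A B) B ((1 : B) ⊗ₜ toTwist p A a) := fun a => by
    show _ = relFrob p A B _
    rw [relFrob_tmul, one_pow, one_mul, RingEquiv.symm_apply_apply]
  constructor
  · intro hA
    refine ⟨?_⟩
    let D₀ := KaehlerDifferential.D (BaseChange p A B) B
    let D : Derivation A B (Ω[B⁄BaseChange p A B]) :=
      Derivation.mk'
        { toFun := D₀
          map_add' := map_add D₀
          map_smul' := fun a b => by
            simp only [RingHom.id_apply, Algebra.smul_def a b, D₀.leibniz]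
            rw [halg, D₀.map_algebraMap, smul_zero, add_zero, ← halg]
            exact IsScalarTower.algebraMap_smul B a (D₀ b) }
        fun a b => D₀.leibniz a b
    have h0 : ∀ b, D₀ b = 0 := fun b => by
      have := D.liftKaehlerDifferential_comp_D b
      rw [show KaehlerDifferential.D A B b = 0 from Subsingleton.elim _ _, map_zero] at this
      exact this.symm
    refine Submodule.subsingleton_iff B |>.1 (subsingleton_of_bot_eq_top ?_)
    rw [← KaehlerDifferential.span_range_derivation, eq_comm, Submodule.span_eq_bot]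
    rintro _ ⟨b, rfl⟩
    exact h0 b
  · intro hA'
    refine ⟨?_⟩
    let D₀ := KaehlerDifferential.D A B
    have hD₀ : ∀ t : BaseChange p A B, D₀ (relFrob p A B t) = 0 := fun t => by
      induction t using TensorProduct.induction_on with
      | zero => simp
      | tmul b a =>
        rw [relFrob_tmul, D₀.leibniz, D₀.map_algebraMap, smul_zero, zero_add, D₀.leibniz_pow,
          ← Nat.cast_smul_eq_nsmul B, CharP.cast_eq_zero, zero_smul, smul_zero]
      | add x y hx hy => simp only [map_add, hx, hy, add_zero]
    letI : Module (BaseChange p A B) (Ω[B⁄A]) := Module.compHom _ (algebraMap (BaseChange p A B) B)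
    haveI : IsScalarTower (BaseChange p A B) B (Ω[B⁄A]) := IsScalarTower.of_algebraMap_smul fun _ _ => rfl
    let D : Derivation (BaseChange p A B) B (Ω[B⁄A]) :=
      Derivation.mk'
        { toFun := D₀
          map_add' := map_add D₀
          map_smul' := fun a b => by
            simp only [RingHom.id_apply, Algebra.smul_def a b, D₀.leibniz]
            rw [show algebraMap (BaseChange p A B) B a = relFrob p A B a from rfl, hD₀, smul_zero, add_zero]
            rfl }
        fun a b => D₀.leibniz a b
    have h0 : ∀ b, D₀ b = 0 := fun b => by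
      have := D.liftKaehlerDifferential_comp_D b
      rw [show KaehlerDifferential.D (BaseChange p A B) B b = 0 from Subsingleton.elim _ _, map_zero] at this
      exact this.symm
    refine Submodule.subsingleton_iff B |>.1 (subsingleton_of_bot_eq_top ?_)
    rw [← KaehlerDifferential.span_range_derivation, eq_comm, Submodule.span_eq_bot]
    rintro _ ⟨b, rfl⟩
    exact h0 b

lemma etale_of_comp.{w₁, w₂, w₃} {R : Type w₁} {S : Type w₂} {T : Type w₃} [CommRing R] [CommRing S] [CommRing T] (f : R →+* S) (g : S →+* T)
    (hf : f.Etale) (hgf : (g.comp f).Etale) : g.Etale := by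
  letI := f.toAlgebra
  letI := g.toAlgebra
  letI := (g.comp f).toAlgebra
  haveI : IsScalarTower R S T := IsScalarTower.of_algebraMap_eq fun _ => rfl
  haveI : Algebra.Etale R S := hf
  haveI : Algebra.Etale R T := hgf
  haveI : Algebra.FormallyEtale S T := Algebra.FormallyEtale.of_restrictScalars (R := R)
  haveI : Algebra.FinitePresentation S T := Algebra.FinitePresentation.of_restrict_scalars_finitePresentation R S T
  exact { }

lemma etale_comp.{w₁, w₂, w₃} {R : Type w₁} {S : Type w₂} {T : Type w₃} [CommRing R] [CommRing S] [CommRing T]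
    (f : R →+* S) (g : S →+* T) (hf : f.Etale) (hg : g.Etale) : (g.comp f).Etale := by
  letI := f.toAlgebra
  letI := g.toAlgebra
  letI := (g.comp f).toAlgebra
  haveI : IsScalarTower R S T := IsScalarTower.of_algebraMap_eq fun _ => rfl
  haveI : Algebra.Etale R S := hf
  haveI : Algebra.Etale S T := hg
  exact Algebra.Etale.comp R S T

lemma etale_of_bijective.{w₁, w₂} {R : Type w₁} {S : Type w₂} [CommRing R] [CommRing S] (f : R →+* S)
    (hf : Function.Bijective f) : f.Etale := by
  letI := f.toAlgebra
  let e : R ≃ₐ[R] S := AlgEquiv.ofBijective (Algebra.ofId R S) hf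
  exact (Algebra.Etale.of_equiv e : Algebra.Etale R S)

theorem bijective_of_etale [Algebra.Etale A B] : Function.Bijective (relFrob p A B) := by
  letI := (relFrob p A B).toAlgebra
  let i : A →+* BaseChange p A B :=
    (Algebra.TensorProduct.includeRight : Twist p A →ₐ[A] BaseChange p A B).toRingHom.comp (toTwist p A).toRingHom
  have hi : i.Etale := by
    have h1 : (algebraMap (Twist p A) (Twist p A ⊗[A] B)).Etale := RingHom.etale_algebraMap.2 inferInstance
    have h2 := etale_comp _ (Algebra.TensorProduct.comm A (Twist p A) B).toRingEquiv.toRingHom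
      (etale_comp _ _ (etale_of_bijective (toTwist p A).toRingHom (toTwist p A).bijective) h1)
      (etale_of_bijective _ (Algebra.TensorProduct.comm A (Twist p A) B).bijective)
    convert h2 using 1
    rfl
  have hcomp : (relFrob p A B).comp i = algebraMap A B := RingHom.ext fun a => by
    show relFrob p A B ((1 : B) ⊗ₜ toTwist p A a) = _
    rw [relFrob_tmul, one_pow, one_mul, RingEquiv.symm_apply_apply]
  haveI : Algebra.Etale (BaseChange p A B) B := RingHom.etale_algebraMap.1
    (etale_of_comp i (relFrob p A B) hi (hcomp ▸ RingHom.etale_algebraMap.2 inferInstance))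
  have hpow : ∀ x : B, algebraMap (BaseChange p A B) B (x ⊗ₜ (1 : Twist p A)) = x ^ p := fun x => by
    show relFrob p A B _ = _
    rw [relFrob_tmul, map_one, map_one, mul_one]
  haveI : Algebra.IsIntegral (BaseChange p A B) B := ⟨fun x => by
    refine IsIntegral.of_pow (Fact.out : p.Prime).pos ?_
    rw [← hpow]
    exact isIntegral_algebraMap⟩
  have hp0 : (p : BaseChange p A B) = 0 := by rw [← map_natCast i p, CharP.cast_eq_zero, map_zero]
  obtain ⟨F, hF⟩ := exists_powHom p (BaseChange p A B) hp0
  have hnil : ∀ t : BaseChange p A B, t ^ p = (relFrob p A B t) ⊗ₜ (1 : Twist p A) := fun t => by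
    rw [← hF]
    induction t using TensorProduct.induction_on with
    | zero => simp
    | tmul b a =>
      rw [hF, Algebra.TensorProduct.tmul_pow, relFrob_tmul, mul_comm (b ^ p), ← Algebra.smul_def, TensorProduct.smul_tmul]
      congr 1
      rw [Algebra.smul_def, mul_one, algebraMap_twist, map_pow, RingEquiv.apply_symm_apply]
    | add x y hx hy => rw [map_add, map_add, TensorProduct.add_tmul, hx, hy]
  haveI : Module.FaithfullyFlat (BaseChange p A B) B := by
    refine Module.FaithfullyFlat.of_comap_surjective fun P => ?_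
    obtain ⟨Q, -, hQp, hQc⟩ := Ideal.exists_ideal_over_prime_of_isIntegral P.asIdeal (⊥ : Ideal B) (by
      intro z hz
      refine P.2.mem_of_pow_mem p ?_
      rw [hnil, show relFrob p A B z = 0 from hz, TensorProduct.zero_tmul]
      exact zero_mem _)
    exact ⟨⟨Q, hQp⟩, PrimeSpectrum.ext hQc⟩
  refine ⟨(FaithfulSMul.algebraMap_injective (BaseChange p A B) B), ?_⟩
  -- the diagonal is an isomorphism
  obtain ⟨t, ht, htl⟩ := (Algebra.FormallyUnramified.iff_exists_tensorProduct (R := BaseChange p A B) (S := B)).1 inferInstance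
  have hp2 : (p : B ⊗[BaseChange p A B] B) = 0 := by
    rw [← map_natCast (algebraMap (BaseChange p A B) (B ⊗[BaseChange p A B] B)), hp0, map_zero]
  obtain ⟨G, hG⟩ := exists_powHom p (B ⊗[BaseChange p A B] B) hp2
  have hd : ∀ x : B, G (x ⊗ₜ 1 - (1 : B) ⊗ₜ x) = 0 := fun x => by
    rw [map_sub, hG, hG, Algebra.TensorProduct.tmul_pow, Algebra.TensorProduct.tmul_pow, one_pow, ← hpow,
      Algebra.algebraMap_eq_smul_one, TensorProduct.smul_tmul, sub_self]
  have hrw : ∀ z : B ⊗[BaseChange p A B] B,
      G z = G (Algebra.TensorProduct.lmul' (BaseChange p A B) z ⊗ₜ (1 : B)) := fun z => by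
    induction z using TensorProduct.induction_on with
    | zero => simp
    | tmul a b =>
      have : (a * b) ⊗ₜ[BaseChange p A B] (1 : B) = a ⊗ₜ b + (a ⊗ₜ 1) * (b ⊗ₜ 1 - (1 : B) ⊗ₜ b) := by
        rw [mul_sub, Algebra.TensorProduct.tmul_mul_tmul, Algebra.TensorProduct.tmul_mul_tmul, mul_one, one_mul, mul_one,
          add_sub_cancel]
      rw [Algebra.TensorProduct.lmul'_apply_tmul, this, map_add, map_mul, hd, mul_zero, add_zero]
    | add x y hx hy => simp only [map_add, TensorProduct.add_tmul, hx, hy]
  have hu : IsUnit t := by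
    have h1 : G t = 1 := by rw [hrw, htl, ← Algebra.TensorProduct.one_def, map_one]
    rw [hG] at h1
    exact IsUnit.of_pow_eq_one h1 (Fact.out : p.Prime).ne_zero
  have heq : ∀ x : B, x ⊗ₜ[BaseChange p A B] (1 : B) = (1 : B) ⊗ₜ x := fun x =>
    ((sub_eq_zero.1 (hu.mul_left_eq_zero.1 (ht x)))).symm
  suffices Function.Surjective (Algebra.linearMap (BaseChange p A B) B) from this
  refine (Module.FaithfullyFlat.lTensor_surjective_iff_surjective _ B _).1 fun z => ?_
  induction z using TensorProduct.induction_on with
  | zero => exact ⟨0, map_zero _⟩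
  | tmul a b =>
    refine ⟨(a * b) ⊗ₜ 1, ?_⟩
    rw [LinearMap.lTensor_tmul, Algebra.linearMap_apply, map_one]
    calc (a * b) ⊗ₜ[BaseChange p A B] (1 : B) = (a ⊗ₜ 1) * (b ⊗ₜ 1) := by
          rw [Algebra.TensorProduct.tmul_mul_tmul, mul_one]
      _ = _ := by rw [heq b, Algebra.TensorProduct.tmul_mul_tmul, mul_one, one_mul]
  | add x y hx hy =>
    obtain ⟨x', hx'⟩ := hx
    obtain ⟨y', hy'⟩ := hy
    exact ⟨x' + y', by rw [map_add, hx', hy']⟩

theorem etale_iff [Algebra.FinitePresentation A B] :
    Algebra.Etale A B ↔ Function.Bijective (relFrob p A B) :=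
  ⟨fun _ => bijective_of_etale, fun h => @Algebra.Etale.mk _ _ _ _ _ (formallyEtale h) inferInstance⟩

end Groth.Agent.RelFrobEt
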